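import Mathlib
import Cfsg.Agent.Base
import Cfsg.Agent.Lib.LocEven.Idx
import Cfsg.Agent.Lib.LocStruct.ResAct
import Cfsg.Agent.Lib.Tech58.AbSylow
import Cfsg.Agent.Lib.Core.CoprimeAbelian

/-!
Small offenders force an `S₃` section (Kurzweil–Stellmacher 10.1.8).
-/

set_option autoImplicit false
set_option linter.unusedSectionVars false
set_option linter.unusedVariables false

namespace H70

open Subgroup H69 Cfsg
open scoped commutatorElement Pointwise

variable {G : Type*} [Group G]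

theorem transv_cases {W : Subgroup G} {a w₀ : G} (h : Le2 (centralizer {a}) W) (hw₀ : w₀ ∈ W)
    (hn : w₀ ∉ centralizer {a}) {w : G} (hw : w ∈ W) :
    a * w * a⁻¹ = w ∨ a * w * a⁻¹ = (a * w₀ * a⁻¹ * w₀⁻¹) * w := by
  by_cases h1 : w ∈ centralizer {a}
  · left
    rw [mem_centralizer_singleton_iff] at h1
    rw [← h1, mul_inv_cancel_right]
  · right
    have h2 := mem_centralizer_singleton_iff.1 (h.inv_mul hw₀ hw hn h1)
    calc a * w * a⁻¹ = a * w₀ * a⁻¹ * (a * (w₀⁻¹ * w)) * a⁻¹ := by group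
      _ = _ := by rw [← h2]; group

theorem closure_swaps_three :
    closure ({Equiv.swap 1 2, Equiv.swap 0 2} : Set (Equiv.Perm (Fin 3))) = ⊤ := by
  rw [eq_top_iff]
  intro σ _
  have h1 : Equiv.swap (1 : Fin 3) 2 ∈ closure ({Equiv.swap 1 2, Equiv.swap 0 2} : Set (Equiv.Perm (Fin 3))) :=
    subset_closure (by simp)
  have h2 : Equiv.swap (0 : Fin 3) 2 ∈ closure ({Equiv.swap 1 2, Equiv.swap 0 2} : Set (Equiv.Perm (Fin 3))) :=
    subset_closure (by simp)
  have h : ∀ σ : Equiv.Perm (Fin 3), σ = 1 ∨ σ = Equiv.swap 1 2 ∨ σ = Equiv.swap 0 2 ∨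
      σ = Equiv.swap 1 2 * Equiv.swap 0 2 ∨ σ = Equiv.swap 0 2 * Equiv.swap 1 2 ∨
      σ = Equiv.swap 1 2 * Equiv.swap 0 2 * Equiv.swap 1 2 := by decide
  rcases h σ with h | h | h | h | h | h <;> rw [h]
  exacts [one_mem _, h1, h2, mul_mem h1 h2, mul_mem h2 h1, mul_mem (mul_mem h1 h2) h1]

/-- two involutions with a product of odd order, acting as transvections on `W`. -/
theorem exists_pair_of_transv [Finite G] {W : Subgroup G} (hW : IsElementaryAbelian 2 W) {a b : G}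
    (ha : a * a = 1) (hb : b * b = 1) (hodd : Odd (orderOf (a * b))) (haW : a ∈ 𝐍(W)) (hbW : b ∈ 𝐍(W))
    (h : Le2 (centralizer {a}) W) (hn : a * b ∉ 𝐂(W)) :
    ∃ u ∈ W, ∃ v ∈ W, u ≠ 1 ∧ a * u * a⁻¹ = u ∧ a * v * a⁻¹ = u * v ∧ b * v * b⁻¹ = v ∧ b * u * b⁻¹ = v * u := by
  obtain ⟨m, hm⟩ := H9.exists_pow_conj_of_odd ha hb hodd
  have hc2 : ((a * b) ^ m * a) * ((a * b) ^ m * a) = 1 := by
    simpa using H9.zpow_mul_left_mul_self ha hb m
  have hcW : (a * b) ^ m * a ∈ 𝐍(W) := mul_mem (pow_mem (mul_mem haW hbW) m) haW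
  have hca : ((a * b) ^ m * a) * a * ((a * b) ^ m * a)⁻¹ = b := Eq.trans (by group) hm
  generalize (a * b) ^ m * a = c at hc2 hcW hca
  have hci : c⁻¹ = c := inv_eq_of_mul_eq_one_right hc2
  have hcc : ∀ w : G, c * (c * w * c⁻¹) * c⁻¹ = w := fun w => by
    calc c * (c * w * c⁻¹) * c⁻¹ = (c * c) * w * (c * c)⁻¹ := by group
      _ = w := by rw [hc2]; group
  have hsq : ∀ w ∈ W, w * w = 1 := fun w hw => by rw [← sq]; exact hW.2 w hw
  have hconj : ∀ w w' : G, a * w * a⁻¹ = w' → b * (c * w * c⁻¹) * b⁻¹ = c * w' * c⁻¹ := fun w w' e => by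
    rw [← hca, ← e]; group
  have haC : ¬ W ≤ centralizer {a} := fun hle => hn (by
    have h1 : a ∈ 𝐂(W) := le_centralizer_singleton_iff.1 hle
    refine mul_mem h1 ?_
    rw [← hca]
    exact conj_mem_of_mem_normalizer (H69.normalizer_le_normalizer_centralizer W hcW) h1)
  obtain ⟨w₀, hw₀, hn₀⟩ := exists_not_mem_of_not_le haC
  have htv := fun w (hw : w ∈ W) => transv_cases h hw₀ hn₀ hw
  have huW : a * w₀ * a⁻¹ * w₀⁻¹ ∈ W := mul_mem (conj_mem_of_mem_normalizer haW hw₀) (inv_mem hw₀)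
  have hu1 : a * w₀ * a⁻¹ * w₀⁻¹ ≠ 1 := fun e => hn₀ (mem_centralizer_singleton_iff.2 (by
    calc w₀ * a = (a * w₀ * a⁻¹ * w₀⁻¹) * (w₀ * a) := by rw [e, one_mul]
      _ = a * w₀ := by group))
  generalize a * w₀ * a⁻¹ * w₀⁻¹ = u at htv huW hu1
  have hau : a * u * a⁻¹ = u := (htv u huW).resolve_right fun e => hu1 (by
    rw [hsq u huW] at e
    simpa using e)
  have hvW : c * u * c⁻¹ ∈ W := conj_mem_of_mem_normalizer hcW huW
  have hbv := hconj _ _ hau
  rcases htv _ hvW with h1 | h1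
  · exfalso
    have hbu := hconj _ _ h1
    rw [hcc] at hbu
    have hD : ∀ s ∈ W, a * s * a⁻¹ = s → b * s * b⁻¹ = s → s ∈ W ⊓ (centralizer {a} ⊓ centralizer {b}) :=
      fun s hs e1 e2 => ⟨hs, mem_centralizer_singleton_iff.2 (mul_inv_eq_iff_eq_mul.1 e1).symm,
        mem_centralizer_singleton_iff.2 (mul_inv_eq_iff_eq_mul.1 e2).symm⟩
    have hA : ∀ w ∈ W, a * w * a⁻¹ * w⁻¹ ∈ W ⊓ (centralizer {a} ⊓ centralizer {b}) := fun w hw => by
      rcases htv w hw with e | e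
      · rw [e, mul_inv_cancel]
        exact one_mem _
      · rw [e, mul_inv_cancel_right]
        exact hD _ huW hau hbu
    have hB : ∀ w ∈ W, b * w * b⁻¹ * w⁻¹ ∈ W ⊓ (centralizer {a} ⊓ centralizer {b}) := fun w hw => by
      rcases htv _ (conj_mem_of_mem_normalizer hcW hw) with e | e
      · have e' := hconj _ _ e
        rw [hcc] at e'
        rw [e', mul_inv_cancel]
        exact one_mem _
      · have e' := hconj _ _ e
        rw [hcc] at e'
        have e2 : c * (u * (c * w * c⁻¹)) * c⁻¹ = (c * u * c⁻¹) * (c * (c * w * c⁻¹) * c⁻¹) := by group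
        rw [e', e2, hcc, mul_inv_cancel_right]
        exact hD _ hvW h1 hbv
    have hx : (orderOf (a * b)).Coprime 2 := (Nat.coprime_two_right).2 hodd
    have := le_centralizer_of_commutator_mem (U := W) (D := W ⊓ (centralizer {a} ⊓ centralizer {b})) (x := a * b)
      ((H24.EA.isPGroup hW).to_le inf_le_left) hx (fun s hs => mem_centralizer_singleton_iff.2 (by
        rw [← mul_assoc, mem_centralizer_singleton_iff.1 hs.2.1, mul_assoc, mem_centralizer_singleton_iff.1 hs.2.2,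
          mul_assoc])) (fun w hw => by
        rw [← inv_mem_iff]
        have e : (w * (a * b) * w⁻¹ * (a * b)⁻¹)⁻¹ = a * (b * w * b⁻¹ * w⁻¹) * a⁻¹ * (a * w * a⁻¹ * w⁻¹) := by group
        rw [e, ← mem_centralizer_singleton_iff.1 (hB w hw).2.1, mul_inv_cancel_right]
        exact mul_mem (hB w hw) (hA w hw))
    exact hn (le_centralizer_singleton_iff.1 this)
  · refine ⟨u, huW, _, hvW, hu1, hau, h1, hbv, ?_⟩
    have h2 := hconj _ _ h1
    rw [hcc] at h2
    rw [h2]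
    calc c * (u * (c * u * c⁻¹)) * c⁻¹ = (c * u * c⁻¹) * (c * (c * u * c⁻¹) * c⁻¹) := by group
      _ = _ := by rw [hcc]

/-- `S₃` acting on the three involutions of a four-group. -/
theorem involves_S3_of_pair {M : Subgroup G} {a b u v : G} (ha : a ∈ M) (hb : b ∈ M) (hu : u * u = 1)
    (hv : v * v = 1) (huv : v * u = u * v) (hu1 : u ≠ 1) (h1 : a * u * a⁻¹ = u) (h2 : a * v * a⁻¹ = u * v)
    (h3 : b * v * b⁻¹ = v) (h4 : b * u * b⁻¹ = v * u) : Involves (Equiv.Perm (Fin 3)) M := by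
  letI : MulAction M G := MulAction.compHom G ((MulAut.conj (G := G)).comp M.subtype)
  have hs : ∀ (g : M) (x : G), g • x = g * x * (g : G)⁻¹ := fun g x => rfl
  have hv1 : v ≠ 1 := fun e => hu1 (by rw [e] at h2; simpa using h2.symm)
  have hne : u ≠ v := fun e => hu1 (by
    rw [← e, h1, hu] at h2
    exact h2)
  have h5 : a * (u * v) * a⁻¹ = v := by
    calc a * (u * v) * a⁻¹ = (a * u * a⁻¹) * (a * v * a⁻¹) := by group
      _ = v := by rw [h1, h2, ← mul_assoc, hu, one_mul]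
  have h6 : b * (u * v) * b⁻¹ = u := by
    calc b * (u * v) * b⁻¹ = (b * u * b⁻¹) * (b * v * b⁻¹) := by group
      _ = u := by rw [h3, h4, huv, mul_assoc, hv, mul_one]
  refine H58.involves_perm_of_action (G := M) (X := G) ![u, v, u * v] ?_ _ closure_swaps_three ?_
  · have e1 : u ≠ u * v := fun e => hv1 (by simpa using e)
    have e2 : v ≠ u * v := fun e => hu1 (by simpa using e)
    intro i j hij
    fin_cases i <;> fin_cases j
    exacts [rfl, absurd hij hne, absurd hij e1, absurd hij hne.symm, rfl, absurd hij e2, absurd hij e1.symm,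
      absurd hij e2.symm, rfl]
  · rintro σ (rfl | rfl)
    · refine ⟨⟨a, ha⟩, fun i => ?_⟩
      rw [hs]
      fin_cases i
      · exact h1
      · exact h2
      · exact h5
    · refine ⟨⟨b, hb⟩, fun i => ?_⟩
      rw [hs]
      fin_cases i
      · exact h4.trans huv
      · exact h3
      · exact h6

theorem involves_S3_of_transv [Finite G] {M W : Subgroup G} (hW : IsElementaryAbelian 2 W) {a b : G}
    (haM : a ∈ M) (hbM : b ∈ M)
    (ha : a * a = 1) (hb : b * b = 1) (hodd : Odd (orderOf (a * b))) (haW : a ∈ 𝐍(W)) (hbW : b ∈ 𝐍(W))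
    (h : Le2 (centralizer {a}) W) (hn : a * b ∉ 𝐂(W)) : Involves (Equiv.Perm (Fin 3)) M := by
  obtain ⟨u, hu, v, hv, h0, h1, h2, h3, h4⟩ := exists_pair_of_transv hW ha hb hodd haW hbW h hn
  exact involves_S3_of_pair haM hbM (by rw [← sq]; exact hW.2 u hu) (by rw [← sq]; exact hW.2 v hv)
    (H24.EA.comm hW hv hu) h0 h1 h2 h3 h4

theorem le2_of_card_lt [Finite G] {C W : Subgroup G} (hW : IsPGroup 2 W)
    (h : Nat.card W < 4 * Nat.card (C ⊓ W : Subgroup G)) : Le2 C W := by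
  apply le2_of_card_le
  obtain ⟨m, hm⟩ := IsPGroup.iff_card.1 hW
  obtain ⟨n, hn⟩ := IsPGroup.iff_card.1 (hW.to_le (inf_le_right : C ⊓ W ≤ W))
  rw [hm, hn] at h ⊢
  have h1 : m < n + 2 := (Nat.pow_lt_pow_iff_right (by norm_num : 1 < 2)).1 (by rw [pow_add]; omega)
  calc 2 ^ m ≤ 2 ^ (n + 1) := Nat.pow_le_pow_right (by norm_num) (by omega)
    _ = _ := by ring

/-- `|A|² |C_V(A)| ≤ |V|` if `A` acts faithfully on an odd order group `F` acting faithfully on `V`, and no `S₃`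
is involved. -/
theorem sq_le_of_S3_free [Finite G] {M V F : Subgroup G} (hV : IsElementaryAbelian 2 V) (hMV : M ≤ 𝐍(V))
    (hFM : F ≤ M) (hF : (Nat.card F).Coprime 2) (hFV : F ⊓ 𝐂(V) = ⊥) (hS : ¬ Involves (Equiv.Perm (Fin 3)) M)
    (A : Subgroup G) : A ≤ M → IsElementaryAbelian 2 A → A ≤ 𝐍(F) → A ⊓ 𝐂(F) = ⊥ →
      Nat.card A ^ 2 * Nat.card (V ⊓ 𝐂(A) : Subgroup G) ≤ Nat.card V := by
  induction A using WellFoundedLT.induction with
  | ind A ih =>
  intro hAM hA hAF hC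
  by_cases h0 : A = ⊥
  · rw [h0, card_bot, one_pow, one_mul]
    exact card_le_of_le inf_le_left
  have h1 : ¬ F ≤ 𝐂(A) := fun h => h0 (by rw [← hC, inf_eq_left.2 (le_centralizer_comm.1 h)])
  have hcop : (Nat.card A).Coprime (Nat.card F) := (H2.coprime_card_of_isPGroup hF (H24.EA.isPGroup hA)).symm
  have h2 := mt (H2.le_of_forall_cocyclic (M := 𝐂(A)) hA.1 hAF hcop) h1
  push Not at h2
  obtain ⟨B, hBA, ⟨a, ha, hBa⟩, h2⟩ := h2
  obtain ⟨y, ⟨hyF, hyB⟩, hyA⟩ := exists_not_mem_of_not_le h2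
  have haa : a * a = 1 := by rw [← sq]; exact hA.2 a ha
  have hai : a⁻¹ = a := inv_eq_of_mul_eq_one_right haa
  have hCA : 𝐂(A) = 𝐂(B) ⊓ centralizer {a} := by rw [← hBa, H69.centralizer_sup, H69.centralizer_zpowers]
  have hya : y ∉ centralizer {a} := fun h => hyA (hCA ▸ ⟨hyB, h⟩)
  have haB : a ∈ 𝐂(B) := H69.centralizer_anti hBA (H24.EA.le_centralizer hA ha)
  have hBlt : B < A := lt_of_le_of_ne hBA fun e => hyA (e ▸ hyB)
  have h3 := ih B hBlt (hBA.trans hAM) (H24.EA.mono hA hBA) (hBA.trans hAF)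
    (eq_bot_iff.2 (hC ▸ inf_le_inf_right _ hBA))
  have h4 : Nat.card A ≤ 2 * Nat.card B := by
    have : Le2 B A := by
      intro s hs t ht hsB htB
      rw [← hBa] at hs ht
      obtain ⟨s₁, hs₁, s₂, hs₂, rfl⟩ := (mem_sup_of_le_normalizer_left
        ((zpowers_le.2 haB).trans (centralizer_le_normalizer _))).1 hs
      obtain ⟨t₁, ht₁, t₂, ht₂, rfl⟩ := (mem_sup_of_le_normalizer_left
        ((zpowers_le.2 haB).trans (centralizer_le_normalizer _))).1 ht
      rcases mem_zpowers_of_sq (by rw [sq, haa]) hs₂ with rfl | rfl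
      · exact absurd (by simpa using hs₁) hsB
      rcases mem_zpowers_of_sq (by rw [sq, haa]) ht₂ with rfl | rfl
      · exact absurd (by simpa using ht₁) htB
      have e : s₁ * t₂ * (t₁ * t₂) = s₁ * t₁ := by
        rw [mul_assoc, mem_centralizer_iff_commute.1 haB t₁ ht₁, ← mul_assoc t₂, haa, one_mul]
      rw [e]
      exact mul_mem hs₁ ht₁
    simpa [inf_eq_left.2 hBA] using this.card_le
  by_contra h5
  have hW : IsElementaryAbelian 2 (V ⊓ 𝐂(B) : Subgroup G) := H24.EA.mono hV inf_le_left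
  have h6 : Le2 (centralizer {a}) (V ⊓ 𝐂(B)) := by
    refine le2_of_card_lt (H24.EA.isPGroup hW) ?_
    have e : centralizer {a} ⊓ (V ⊓ 𝐂(B)) = V ⊓ 𝐂(A) := by rw [hCA]; ac_rfl
    rw [e]
    have h7 : Nat.card A ^ 2 ≤ 4 * Nat.card B ^ 2 := by nlinarith
    have h8 : 0 < Nat.card B ^ 2 := pow_pos Nat.card_pos 2
    refine Nat.lt_of_mul_lt_mul_left (a := Nat.card B ^ 2) ?_
    nlinarith
  have hn : ∀ g ∈ M, g ∈ 𝐂(B) → g ∈ 𝐍(V ⊓ 𝐂(B)) := fun g h1 h2 =>
    H69.le_normalizer_inf (L := zpowers g) ((zpowers_le.2 h1).trans hMV)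
      ((zpowers_le.2 h2).trans le_normalizer) (mem_zpowers g)
  have hbM : y * a * y⁻¹ ∈ M := mul_mem (mul_mem (hFM hyF) (hAM ha)) (inv_mem (hFM hyF))
  have hbB : y * a * y⁻¹ ∈ 𝐂(B) := mul_mem (mul_mem hyB haB) (inv_mem hyB)
  have hxF : a * (y * a * y⁻¹) ∈ F := by
    have := mul_mem (conj_mem_of_mem_normalizer (hAF ha) hyF) (inv_mem hyF)
    rwa [hai, mul_assoc a y a, mul_assoc a] at this
  have hx1 : a * (y * a * y⁻¹) ≠ 1 := fun e => hya (mem_centralizer_singleton_iff.2 (by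
    rw [mul_eq_one_iff_inv_eq, hai] at e
    exact mul_inv_eq_iff_eq_mul.1 e.symm))
  have hxo : (orderOf (a * (y * a * y⁻¹))).Coprime 2 := hF.coprime_dvd_left (F.orderOf_dvd_natCard hxF)
  refine hS (involves_S3_of_transv hW (hAM ha) hbM haa (by
    calc y * a * y⁻¹ * (y * a * y⁻¹) = y * (a * a) * y⁻¹ := by group
      _ = 1 := by rw [haa]; group) (Nat.coprime_two_right.1 hxo) (hn a (hAM ha) haB) (hn _ hbM hbB) h6 ?_)
  have hxB : a * (y * a * y⁻¹) ∈ 𝐂(B) := mul_mem haB hbB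
  generalize a * (y * a * y⁻¹) = x at hxF hx1 hxo hxB
  intro hx
  have hxV : zpowers x ≤ 𝐍(V) := (zpowers_le.2 (hFM hxF)).trans hMV
  have hU := H2.commutator_inf_centralizer_eq_bot hV.1 hxV (coprime_card_zpowers hxo (H24.EA.isPGroup hV))
  have hUV : ⁅V, zpowers x⁆ ≤ V := commutator_le_left_of_le_normalizer hxV
  refine inf_centralizer_ne_bot ((H24.EA.isPGroup hV).to_le hUV) (H24.EA.isPGroup (H24.EA.mono hA hBA))
    (le_normalizer_commutator ((hBA.trans hAM).trans hMV)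
      (le_normalizer_of_le_centralizer (le_centralizer_comm.1 (zpowers_le.2 hxB)))) (fun e => hx1 ?_) ?_
  · have := le_centralizer_comm.1 (le_centralizer_of_commutator_eq_bot e) (mem_zpowers x)
    exact mem_bot.1 (hFV ▸ ⟨hxF, this⟩)
  · rw [eq_bot_iff, ← hU]
    exact le_inf inf_le_left ((inf_le_inf_right _ hUV).trans (le_centralizer_comm.1 (zpowers_le.2 hx)))

end H70
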